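import Groth.Agent.EtCd.K549.ClosDim
import Groth.Agent.Ega4fib.H174.EquidimAff
import Groth.Agent.Sga4h.GeoDim3
import Groth.Agent.Ega4A.CompleteCat
import Groth.Agent.CalgB.PowField
import Groth.Agent.Ega4late.H544.Dim

/-!
# Dimensions on the affine spaces over a regular local ring

`dims`: for `A` regular local of dimension `M`, `z` a point of `𝔸^N_A` whose closure does not meet the closed fibre,
`dim cl(z) + dim O_z + 1 = M + N`.
-/

set_option autoImplicit false
universe u
open CategoryTheory CategoryTheory.Limits AlgebraicGeometry Opposite TopologicalSpace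

namespace K813.Dims

open Groth.Agent Groth.Agent.CycB.RelDim K549.ClosDim

instance irreducibleSpace (A : Type u) [CommRing A] [IsDomain A] (N : ℕ) :
    IrreducibleSpace ↥(𝔸(ULift.{u} (Fin N); Spec (CommRingCat.of A))) := by
  infer_instance

/-- The dimension formula on the affine spaces over a regular local ring. -/
theorem stalk_formula {A : Type u} [CommRing A] [IsRegularLocalRing A] (M N : ℕ) (hM : ringKrullDim A = M)
    (z : 𝔸(ULift.{u} (Fin N); Spec (CommRingCat.of A))) :
    ∃ e c r : ℕ, ringKrullDim (𝔸(ULift.{u} (Fin N); Spec (CommRingCat.of A)).presheaf.stalk z) = e ∧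
      rtd (𝔸(ULift.{u} (Fin N); Spec (CommRingCat.of A)) ↘ Spec (CommRingCat.of A)) z = r ∧
      ringKrullDim (A ⧸ ((𝔸(ULift.{u} (Fin N); Spec (CommRingCat.of A)) ↘ Spec (CommRingCat.of A)) z).asIdeal) = c ∧
      e + c + r = M + N := by
  have : IsDomain A := Groth.Agent.S0558.result A
  have hA : CAlg.IsUniversallyCatenary A := Ega4A.CompleteCat.isUniversallyCatenary_of_isRegularLocalRing A
  have hg : (𝔸(ULift.{u} (Fin N); Spec (CommRingCat.of A)) ↘ Spec (CommRingCat.of A))
      (genericPoint 𝔸(ULift.{u} (Fin N); Spec (CommRingCat.of A))) = genericPoint (Spec (CommRingCat.of A)) :=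
    Sga4h.GeoDim.affineSpace_genericPoint _ _
  have ha : ringKrullDim (A ⧸ ((𝔸(ULift.{u} (Fin N); Spec (CommRingCat.of A)) ↘ Spec (CommRingCat.of A))
      (genericPoint 𝔸(ULift.{u} (Fin N); Spec (CommRingCat.of A)))).asIdeal) = M := by
    rw [hg, genericPoint_eq_bot_of_affine]
    change ringKrullDim (A ⧸ (⊥ : Ideal A)) = M
    rw [← hM]
    exact ringKrullDim_eq_of_ringEquiv (RingEquiv.quotientBot A)
  have hb : rtd (𝔸(ULift.{u} (Fin N); Spec (CommRingCat.of A)) ↘ Spec (CommRingCat.of A))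
      (genericPoint 𝔸(ULift.{u} (Fin N); Spec (CommRingCat.of A))) = N :=
    Ega4fib.H174.EquidimAff.rtd_affineSpace_of_maximal N _ fun t' ht' _ =>
      (ht'.antisymm (genericPoint_specializes t')).eq
  obtain ⟨m, n, c, r, h1, h2, h3, h4, h5⟩ := coheight_formula hA
    (𝔸(ULift.{u} (Fin N); Spec (CommRingCat.of A)) ↘ Spec (CommRingCat.of A)) M N ha hb z
  refine ⟨m, c, r, ?_, h2, h3, by omega⟩
  rw [ringKrullDim_stalk_eq_coheight, h1]
  rfl

/-- The dimension of the closure of a point. -/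
theorem closure_formula {A : Type u} [CommRing A] [IsNoetherianRing A] [IsLocalRing A]
    (hA : CAlg.IsUniversallyCatenary A) {X : Scheme.{u}} (f : X ⟶ Spec (CommRingCat.of A)) [LocallyOfFiniteType f]
    [QuasiCompact f] (x : X) (c r : ℕ) (hc : ringKrullDim (A ⧸ (f x).asIdeal) = c) (hr : rtd f x = r)
    (hx : ∀ y : X, x ⤳ y → f y ≠ cp A) :
    ∃ d : ℕ, topologicalKrullDim ↥(closure ({x} : Set X)) = d ∧ d + 1 = c + r := by
  obtain ⟨Z, i, hi, hZ, hη, hri⟩ := CycA.ClosurePt.exists_closure_subscheme x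
  have hg : (i ≫ f) (genericPoint Z) = f x := by rw [Scheme.Hom.comp_apply, hη]
  have hb' : rtd (i ≫ f) (genericPoint Z) = r := by
    rw [rtd_comp, rtd_eq_zero_of_isPreimmersion i, add_zero, hη]
    exact hr
  have ha' : ringKrullDim (A ⧸ ((i ≫ f) (genericPoint Z)).asIdeal) = c := by
    rw [hg]; exact hc
  obtain ⟨h1, h2⟩ := K549.ClosDim.main hA (i ≫ f) c r ha' hb'
  obtain ⟨d, hd, e⟩ := h2 (fun z hz => by
    have h3 : i z ∈ closure ({x} : Set X) := by
      rw [← hri]
      exact ⟨z, rfl⟩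
    exact hx (i z) (specializes_iff_mem_closure.2 h3) (by rw [← Scheme.Hom.comp_apply]; exact hz))
  refine ⟨d, ?_, e⟩
  rw [← hd, ← hri]
  exact (IsHomeomorph.topologicalKrullDim_eq _ i.isEmbedding.toHomeomorph.isHomeomorph).symm

/-- **Dimensions on affine spaces over a regular local ring.** -/
theorem dims {A : Type u} [CommRing A] [IsRegularLocalRing A] (M N : ℕ) (hM : ringKrullDim A = M)
    (z : 𝔸(ULift.{u} (Fin N); Spec (CommRingCat.of A)))
    (hz : ∀ y, z ⤳ y → (𝔸(ULift.{u} (Fin N); Spec (CommRingCat.of A)) ↘ Spec (CommRingCat.of A)) y ≠ cp A) :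
    ∃ d e : ℕ, topologicalKrullDim ↥(closure ({z} : Set 𝔸(ULift.{u} (Fin N); Spec (CommRingCat.of A)))) = d ∧
      ringKrullDim (𝔸(ULift.{u} (Fin N); Spec (CommRingCat.of A)).presheaf.stalk z) = e ∧ d + e + 1 = M + N := by
  obtain ⟨e, c, r, h1, h2, h3, h4⟩ := stalk_formula M N hM z
  obtain ⟨d, hd, h5⟩ := closure_formula (Ega4A.CompleteCat.isUniversallyCatenary_of_isRegularLocalRing A)
    (𝔸(ULift.{u} (Fin N); Spec (CommRingCat.of A)) ↘ Spec (CommRingCat.of A)) z c r h3 h2 hz
  exact ⟨d, e, hd, h1, by omega⟩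

end K813.Dims
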