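import Groth.Agent.Sga2lef.H134.DepthPush
import Groth.Agent.S0067

/-!
# Étale depth and direct images along closed immersions

* `depthAtGE_of_push`: the depth of `F` at `v` from the depth of `c_* F` at `c v`, `c` a closed immersion;
* `depthAtGE_push_iff`;
* `depthAtGE_push_of_notMem`: `c_* F` has infinite depth at the points outside the image.
-/

set_option autoImplicit false
universe u
open CategoryTheory CategoryTheory.Limits AlgebraicGeometry Opposite IsLocalRing

namespace K813.DepthPull

open Groth.Agent Groth.Agent.Etrest.StrictLoc Groth.Agent.Sga1.UlaSL Groth.Agent.Etrest.StrictLocBC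
  Groth.Agent.Sga2lef.H134.DepthAt Groth.Agent.Sga2lef.H134.DepthPush

/-- Direct images along closed immersions reflect zero objects. -/
theorem isZero_of_push {Z X : Scheme.{u}} (z : Z ⟶ X) [IsClosedImmersion z] (M : EtCoh.Ab Z)
    (h : IsZero ((EtCoh.push z).obj M)) : IsZero M := by
  have : IsIso (EtCoh.pullPushAdj z).counit := by
    obtain ⟨h1, h2⟩ := S0067.result z
    exact Adjunction.counit_isIso_of_R_fully_faithful _
  exact ((EtCoh.pull z).map_isZero h).of_iso (asIso ((EtCoh.pullPushAdj z).counit.app M)).symm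

/-- The depth at `v` from the depth of the direct image. -/
theorem depthAtGE_of_push {V A : Scheme.{u}} (c : V ⟶ A) [IsClosedImmersion c] (F : EtCoh.Ab V) (v : V)
    (n : ℕ) (h : EtDepth.DepthAtGE A ((EtCoh.push c).obj F) (c v) n) : EtDepth.DepthAtGE V F v n := by
  obtain ⟨C, _, _, σ, hσ, ha⟩ := exists_isStrictLoc A (c v)
  rw [depthAtGE_iff_of_isStrictLoc hσ (c v) ha] at h
  obtain ⟨I, hloc, τ, hpb, hτv⟩ := exists_quot c σ v ha.symm
  have hl : IsLocalHom (Ideal.Quotient.mk I) :=
    IsLocalHom.of_surjective _ Ideal.Quotient.mk_surjective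
  have hτ : IsStrictLoc τ := by
    have h5 := isStrictLoc_of_isPullback hσ hpb (Groth.Agent.Sga2lef.H107.FibreLoc.isLocAt_id (C ⧸ I))
      (Ideal.Quotient.mk I) (RingHom.isIntegral_of_surjective _ Ideal.Quotient.mk_surjective)
      (Category.id_comp _).symm
    rwa [Category.id_comp] at h5
  have hc' : IsClosedImmersion (spm (Ideal.Quotient.mk I)) :=
    IsClosedImmersion.spec_of_surjective _ Ideal.Quotient.mk_surjective
  rw [depthAtGE_iff_of_isStrictLoc hτ v hτv]
  have hiso := Groth.Agent.S0655.result c σ (spm (Ideal.Quotient.mk I)) τ hpb F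
  have hr := range_punct_eq (Ideal.Quotient.mk I)
    (spm (Ideal.Quotient.mk I)).isClosedEmbedding.injective
  obtain ⟨h', hsq⟩ := Groth.Agent.Sga4B.LocCohLocal.isPullback_of_range (FEt.puncturedSpec C).ι
    (spm (Ideal.Quotient.mk I)) (FEt.puncturedSpec (C ⧸ I)).ι hr
  have h2 := Groth.Agent.Sga2lef.H107.DepthSES.DepthGE.of_iso
    (asIso (EtCoh.baseChange0 c σ (spm (Ideal.Quotient.mk I)) τ hpb.w F)) h
  intro p hp
  refine isZero_of_push (spm (Ideal.Quotient.mk I)) _ ?_
  exact IsZero.of_iso (h2 p hp) (Groth.Agent.Sga4B.PureComp.locCohPushIso hsq p _).symm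

/-- **Depth and direct images along closed immersions.** -/
theorem depthAtGE_push_iff {V A : Scheme.{u}} (c : V ⟶ A) [IsClosedImmersion c] (F : EtCoh.Ab V) (v : V)
    (n : ℕ) : EtDepth.DepthAtGE A ((EtCoh.push c).obj F) (c v) n ↔ EtDepth.DepthAtGE V F v n :=
  ⟨depthAtGE_of_push c F v n, fun h => depthAtGE_push c F (c v) n fun w hw => by
    rw [c.isClosedEmbedding.injective hw]
    exact h⟩

/-- Infinite depth outside the image. -/
theorem depthAtGE_push_of_notMem {V A : Scheme.{u}} (c : V ⟶ A) [IsClosedImmersion c] (F : EtCoh.Ab V) (a : A)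
    (ha : a ∉ Set.range c) (n : ℕ) : EtDepth.DepthAtGE A ((EtCoh.push c).obj F) a n :=
  depthAtGE_push c F a n fun v hv => absurd ⟨v, hv⟩ ha

end K813.DepthPull
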