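import Groth.Agent.EtDepth.K813.Dims
import Groth.Agent.EtDepth.K813.DepthPull
import Groth.Agent.EtDepth.K973.Stmt
import Groth.Agent.Etdl.H434.Defs
import Groth.Agent.Etbc.H215.AffEmb
import Groth.Agent.Sga2lef.H91.ModPush
import Groth.Agent.Localalg.RegPowerSeries

/-!
# Embedding affine schemes over the punctured spectrum of a power series ring in affine spaces

For `f : L ⟶ puncturedSpec K[[x_1, …, x_M]]` locally of finite type, `L` affine:
* `exists_emb`: a closed immersion `i : L ⟶ 𝔸^N` over `Spec K[[x_1, …, x_M]]`;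
* `ne_cp`: the closures in `𝔸^N` of the points of `L` do not meet the closed fibre;
* `dim_closure`, `exists_dims`: dimensions of the closures in `L` and in `𝔸^N`;
* `isConstructible_push`, `depth_push_iff`, `depth_push_of_notMem`: the sheaf `i_* G`.
-/

set_option autoImplicit false
universe u
open CategoryTheory CategoryTheory.Limits AlgebraicGeometry Opposite TopologicalSpace

namespace K813.Emb

open K973.Stmt Groth.Agent Groth.Agent.Etdl.H434.Defs K549.ClosDim

/-- The affine space of dimension `N` over `Spec K[[x_1, …, x_M]]`. -/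
noncomputable abbrev AN (M N : ℕ) (K : Type u) [Field K] : Scheme.{u} := 𝔸(ULift.{u} (Fin N); SP M K)

/-- The structure morphism of `AN`. -/
noncomputable abbrev anStr (M N : ℕ) (K : Type u) [Field K] : AN M N K ⟶ SP M K :=
  𝔸(ULift.{u} (Fin N); SP M K) ↘ SP M K

section

variable {M : ℕ} {K : Type u} [Field K] {L : Scheme.{u}} [IsAffine L]
  (f : L ⟶ (FEt.puncturedSpec (MvPowerSeries (Fin M) K) : Scheme.{u})) [LocallyOfFiniteType f]

/-- Affine schemes of finite type over the punctured spectrum embed in affine spaces. -/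
theorem exists_emb : ∃ (N : ℕ) (i : L ⟶ AN M N K), IsClosedImmersion i ∧
    i ≫ anStr M N K = f ≫ (FEt.puncturedSpec (MvPowerSeries (Fin M) K)).ι :=
  Etbc.H215.AffEmb.exists_closedImmersion (f ≫ (FEt.puncturedSpec (MvPowerSeries (Fin M) K)).ι)

variable {f} {N : ℕ} (i : L ⟶ AN M N K) [IsClosedImmersion i]
  (w : i ≫ anStr M N K = f ≫ (FEt.puncturedSpec (MvPowerSeries (Fin M) K)).ι)

include w in
omit [IsAffine L] [LocallyOfFiniteType f] [IsClosedImmersion i] in
/-- The image does not meet the closed fibre. -/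
theorem str_ne_cp (u : L) : anStr M N K (i u) ≠ cp (MvPowerSeries (Fin M) K) := by
  have h1 : anStr M N K (i u) = (FEt.puncturedSpec (MvPowerSeries (Fin M) K)).ι (f u) := by
    rw [← Scheme.Hom.comp_apply, w, Scheme.Hom.comp_apply]
  rw [h1]
  exact (f u).2

include w in
omit [IsAffine L] [LocallyOfFiniteType f] in
/-- The closures of the points of the image do not meet the closed fibre. -/
theorem ne_cp (u : L) (y : AN M N K) (h : i u ⤳ y) : anStr M N K y ≠ cp (MvPowerSeries (Fin M) K) := by
  obtain ⟨u', rfl⟩ := h.mem_closed i.isClosedEmbedding.isClosed_range ⟨u, rfl⟩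
  exact str_ne_cp i w u'

omit [IsAffine L] in
/-- Closures in `L` and in `𝔸^N`. -/
theorem dim_closure (u : L) : topologicalKrullDim ↥(closure ({u} : Set L)) =
    topologicalKrullDim ↥(closure ({i u} : Set (AN M N K))) := by
  have h1 : i '' closure ({u} : Set L) = closure ({i u} : Set (AN M N K)) := by
    rw [← i.isClosedEmbedding.closure_image_eq, Set.image_singleton]
  rw [← h1]
  exact IsHomeomorph.topologicalKrullDim_eq _
    (i.isClosedEmbedding.isEmbedding.homeomorphImage (closure ({u} : Set L))).isHomeomorph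

include w in
omit [IsAffine L] [LocallyOfFiniteType f] in
/-- **Dimensions**: `dim cl(u) + dim O_{𝔸^N, u} + 1 = M + N`. -/
theorem exists_dims (u : L) : ∃ d e : ℕ, topologicalKrullDim ↥(closure ({u} : Set L)) = d ∧
    ringKrullDim ((AN M N K).presheaf.stalk (i u)) = e ∧ d + e + 1 = M + N := by
  rw [dim_closure i u]
  exact Dims.dims M N (CalgB.PowField.ringKrullDim_eq K M) (i u) (ne_cp i w u)

end

section Sheaf

variable {m : ℕ} {L A : Scheme.{u}} (i : L ⟶ A) [IsClosedImmersion i] (G : EtModW.Mod (Lam.{u} m) L)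

/-- Constructibility of `i_* G`. -/
theorem isConstructible_push (hm : 0 < m) [IsLocallyNoetherian A] (hG : EtModW.IsConstructible (Lam.{u} m) G) :
    EtModW.IsConstructible (Lam.{u} m) ((EtModW.push (Lam.{u} m) i).obj G) := by
  have : NeZero m := ⟨hm.ne'⟩
  have : LocallyOfFinitePresentation i := LocallyOfFinitePresentation.iff_locallyOfFiniteType.2 inferInstance
  exact Sga2lef.H91.ModPush.isConstructible_push i G hG

/-- The depth of `i_* G`. -/
theorem depth_push_iff (u : L) (n : ℕ) :
    EtDepth.DepthAtGE A ((EtModD.forgetToAb (Lam.{u} m) A).obj ((EtModW.push (Lam.{u} m) i).obj G)) (i u) n ↔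
      EtDepth.DepthAtGE L ((EtModD.forgetToAb (Lam.{u} m) L).obj G) u n :=
  DepthPull.depthAtGE_push_iff i ((EtModD.forgetToAb (Lam.{u} m) L).obj G) u n

/-- The depth of `i_* G` outside the image. -/
theorem depth_push_of_notMem (a : A) (ha : a ∉ Set.range i) (n : ℕ) :
    EtDepth.DepthAtGE A ((EtModD.forgetToAb (Lam.{u} m) A).obj ((EtModW.push (Lam.{u} m) i).obj G)) a n :=
  DepthPull.depthAtGE_push_of_notMem i ((EtModD.forgetToAb (Lam.{u} m) L).obj G) a ha n

end Sheaf

end K813.Emb
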