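import Groth.Agent.EtDepth.K813.CvMod
import Groth.Agent.EtDual.K336.SPg

/-!
# Node CV: the depth is bounded below by the vanishing of the cohomology of the dual

`main : NodeCv`.
-/

set_option autoImplicit false
universe u

open CategoryTheory CategoryTheory.Limits AlgebraicGeometry Opposite

attribute [local instance 5000] CategoryTheory.Abelian.toPreadditive
  CategoryTheory.Preadditive.preadditiveHasZeroMorphisms

namespace K813.Cv

attribute [local instance] HasDerivedCategory.standard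
open scoped Groth.Agent.Sga4h.ModInst
open Groth.Agent Groth.Agent.Sga4h Groth.Agent.Sga4h.Refl DerivedCategory
open Groth.Agent.Sga4h.BidIndD48 Groth.Agent.Sga4h.BidIndLoc48 Groth.Agent.Sga4h.BidLoc48
open Groth.Agent.Sga4h.BidRed538Main Groth.Agent.EtDual.K336.StrictS Groth.Agent.EtDual.K336
open Groth.Agent.Etdl.H434.Defs Groth.Agent.EtpbcB Groth.Agent.EtpbcB.BCU Groth.Agent.Etrest.StrictLoc

variable {Λ : Type (u + 1)} [CommRing Λ]

/-- **The lower bound of the depth.** -/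
theorem depthAtGE [Finite Λ] [IsNoetherianRing Λ] {m : ℕ} (hm : 0 < m) (hΛ : ((m : ℕ) : Λ) = 0) {M : ℕ} {K : Type u}
    [Field K] [CharZero K] {X : Scheme.{u}} (f : X ⟶ SP M K) [Smooth f] [QuasiCompact f] (v : X) (c : ℕ)
    (hc : ringKrullDim (X.presheaf.stalk v) = c)
    (hD : ∀ (K' : Type u) [Field K'] [IsAlgClosed K'] [CharZero K'],
      CvLoc.Dat (MvPowerSeries (Fin c) K') Λ m (2 * (c : ℤ)))
    (F : EtModW.Mod Λ X) (hF : EtModW.IsConstructible Λ F) (k : ℕ)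
    (S : EtModW.Mod Λ X ⥤ CochainComplex (EtModW.Mod Λ X) ℤ)
    (hh : ∀ p : ℤ, ((stdDual Λ X).D (S.obj F)).HasHomology p)
    (h : ∀ p : ℤ, 2 * (c : ℤ) < p + k → IsZero ((EtPts.stk Λ v).obj
      (@HomologicalComplex.homology _ _ _ _ _ ((stdDual Λ X).D (S.obj F)) p (hh p))))
    (e : CochainComplex.singleFunctor (EtModW.Mod Λ X) 0 = S) :
    EtDepth.DepthAtGE X ((EtModD.forgetToAb Λ X).obj F) v k := by
  obtain ⟨hN, ⟨qX⟩, hexc, hreg⟩ := K584.Hulls.exists_facts f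
  have := hreg v
  obtain ⟨K', _, _, _, A, _, _, σ, β, hNA, hσ, hσv, hβ, hβl, hβm, hg, hU⟩ :=
    K584.Hulls.exists_hull qX v (hexc v) c hc
  have hloc : Loc (stdDual Λ X) (stdDual Λ (Spec (CommRingCat.of (MvPowerSeries (Fin c) K'))))
      (Spec.map (CommRingCat.ofHom β) ≫ σ) := by
    refine K973.RegCmp.loc_of_bcMor (n := m) (S := Spec (CommRingCat.of (ULift.{u} ℚ))) _ hN ?_ hΛ (hU qX).bcMor
    have h0 : IsUnit ((m : ℕ) : ULift.{u} ℚ) := by
      have h1 : ((m : ℕ) : ℚ) ≠ 0 := Nat.cast_ne_zero.2 hm.ne'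
      have h2 := (isUnit_iff_ne_zero.2 h1).map (ULift.ringEquiv (R := ℚ)).symm
      rwa [map_natCast] at h2
    have h1 := h0.map (Scheme.ΓSpecIso (CommRingCat.of (ULift.{u} ℚ))).inv.hom
    rwa [map_natCast] at h1
  refine CvHull.depthAtGE qX hσ v hσv β hβ hβl hβm _ (H299.AbBasic.isTorsion_ab hm hΛ F) k fun i hi => ?_
  refine CvMod.isZero_locCoh_pull (hD K') (FEt.puncturedSpec (MvPowerSeries (Fin c) K')).ι (fun x => ?_)
    (Spec.map (CommRingCat.ofHom β) ≫ σ) hloc v hg F hF k S hh h _ (fun _ => inferInstance) e rfl i hi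
  rw [Scheme.Opens.range_ι]
  rfl

/-- The data for `ℤ/m` on `Spec K[[x_1, …, x_c]]`. -/
theorem dat (m : ℕ) [NeZero m] (c : ℕ) (K : Type u) [Field K] [IsAlgClosed K] [CharZero K]
    (hB : Bid (stdDual (K973.Stmt.Lam.{u} m) (SP c K))) :
    CvLoc.Dat (MvPowerSeries (Fin c) K) (K973.Stmt.Lam.{u} m) m (2 * (c : ℤ)) :=
  CvLoc.dat_of_baseData (SPg.baseData m c K hB)

/-- **NODE CV.** -/
theorem main : FinStmt.NodeCv.{u} := by
  intro m hm M K _ _ _ X f _ _ _ c hd hb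
  have hm' : NeZero m := ⟨hm.ne'⟩
  have hΛ : IsNoetherianRing (K973.Stmt.Lam.{u} m) := K584.Hulls.isNoetherianRing_lam m
  refine ⟨fun F hF v q e he hz => ?_⟩
  have hec : e ≤ c := by
    have h1 := hd v
    rw [he] at h1
    exact_mod_cast h1
  exact depthAtGE (Λ := K973.Stmt.Lam.{u} m) hm (GlobS.lam_zero m) f v e he
    (fun K' _ _ _ => dat m e K' (hb e hec K')) F hF q _ _ hz rfl

end K813.Cv
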