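import Groth.Agent.EtDual.K336.StrictAbs
import Groth.Agent.EtDual.K336.DPAbs

/-!
# Local duality read backwards, abstractly

In the situation of `K336.StrictAbs.local_dual`: `Hom(I, H^b (D K)) = 0` implies `Hom(P, K[c - b]) = 0`.
-/

set_option autoImplicit false
set_option backward.defeqAttrib.useBackward true
set_option backward.isDefEq.respectTransparency false

universe w w' v₁ u₁

namespace K813.CvAbs

open CategoryTheory Category Limits HomologicalComplex CochainComplex Opposite ZeroObject Pretriangulated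
open Groth.Agent.Sga4h.DualCx Groth.Agent.Sga4h.DualSelf Groth.Agent.Sga4h.Refl
open Groth.Agent.Sga4h Groth.Agent.Sga4h.BidGlobU DerivedCategory Groth.Agent.EtDual.K336.StrictAbs

variable {C : Type u₁} [Category.{v₁} C] [Abelian C] [HasDerivedCategory.{w} C]

section

variable {T : C ⥤ C ⥤ C} [T.Additive]
  [∀ X, (T.obj X).Additive]
  [∀ (K₁ K₂ : CochainComplex C ℤ), CochainComplex.HasMapBifunctor K₁ K₂ T]
  [∀ E : CochainComplex C ℤ, (T.map₂CochainComplex.flip.obj E).IsLeftAdjoint]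
  [∀ (J : Type), HasColimitsOfShape (Discrete J) C]
  [∀ (J : Type), (colim : (Discrete J ⥤ C) ⥤ C).PreservesMonomorphisms]
  (A : DualData T) {I P : C} [Projective I] [Injective P] {n : ℕ}
  (hP : ∀ F : C, Nonempty ((F ⟶ P) ≃+ ((I ⟶ F) →+ ZMod n))) {c : ℤ}
  (hc : Nonempty (Q.obj (A.D ((CochainComplex.singleFunctor C 0).obj P)) ≅
    (Q.obj ((CochainComplex.singleFunctor C 0).obj P))⟦-c⟧))

include hP hc in
theorem subsingleton_hom (K : CochainComplex C ℤ) (hK : A.Refl K) (b : ℤ)
    (h : Subsingleton (I ⟶ (A.D K).homology b)) :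
    Subsingleton ((DerivedCategory.singleFunctor C 0).obj P ⟶ (Q.obj K)⟦c - b⟧) := by
  obtain ⟨e1⟩ := local_dual A hP hc K hK (c - b)
  rw [show c - (c - b) = b by lia] at e1
  obtain ⟨e3⟩ := nonempty_homProj I (Q.obj (A.D K)) b
  have h' : Subsingleton (I ⟶ (HomologicalComplex.homologyFunctor C (ComplexShape.up ℤ) b).obj (A.D K)) := h
  have h0 : Subsingleton (I ⟶ (Q ⋙ DerivedCategory.homologyFunctor C b).obj (A.D K)) :=
    (homAddCongr (Iso.refl I) ((homologyFunctorFactors C b).app (A.D K))).injective.subsingleton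
  have h1 : Subsingleton (I ⟶ (DerivedCategory.homologyFunctor C b).obj (Q.obj (A.D K))) := h0
  have h2 : Subsingleton ((I ⟶ (DerivedCategory.homologyFunctor C b).obj (Q.obj (A.D K))) →+ ZMod n) :=
    ⟨fun f g => by
      ext x
      rw [Subsingleton.elim x 0, map_zero, map_zero]⟩
  exact (e1.trans (AddEquiv.addMonoidHomCongrLeft e3)).injective.subsingleton

end

/-- `Ext^i(P, F) = 0` from `Hom(P, F[i]) = 0`. -/
theorem subsingleton_ext [HasExt.{w'} C] (P F : C) (i : ℕ) (j : ℤ) (hj : j = i)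
    (h : Subsingleton ((DerivedCategory.singleFunctor C 0).obj P ⟶
      (Q.obj ((CochainComplex.singleFunctor C 0).obj F))⟦j⟧)) : Subsingleton (Abelian.Ext.{w'} P F i) := by
  subst hj
  have e0 : (DerivedCategory.singleFunctor C 0).obj F ≅ Q.obj ((CochainComplex.singleFunctor C 0).obj F) :=
    (DerivedCategory.singleFunctorIsoCompQ C 0).app F
  obtain ⟨e⟩ := Groth.Agent.EtDual.K336.DPAbs.nonempty_extHom.{_, _, _, w'} P F i
  exact (e.trans (homAddCongr (Iso.refl _)
    ((CategoryTheory.shiftFunctor _ (i : ℤ)).mapIso e0))).injective.subsingleton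

omit [HasDerivedCategory.{w} C] in
/-- The vanishing of `Ext` depends only on the isomorphism class. -/
theorem subsingleton_ext_of_iso [HasExt.{w'} C] {P P' : C} (e : P' ≅ P) (F : C) (i : ℕ)
    (h : Subsingleton (Abelian.Ext.{w'} P F i)) : Subsingleton (Abelian.Ext.{w'} P' F i) := by
  have key : ∀ a : Abelian.Ext.{w'} P' F i, a = 0 := fun a => by
    have h3 : (Abelian.Ext.mk₀ e.inv).comp a (zero_add i) = 0 := Subsingleton.elim _ _
    have h4 : (Abelian.Ext.mk₀ e.hom).comp ((Abelian.Ext.mk₀ e.inv).comp a (zero_add i)) (zero_add i) = a := by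
      rw [Abelian.Ext.mk₀_comp_mk₀_assoc, Iso.hom_inv_id, Abelian.Ext.mk₀_id_comp]
    rw [← h4, h3, Abelian.Ext.comp_zero]
  exact ⟨fun a b => (key a).trans (key b).symm⟩

section

variable {T : C ⥤ C ⥤ C} [T.Additive]
  [∀ X, (T.obj X).Additive]
  [∀ (K₁ K₂ : CochainComplex C ℤ), CochainComplex.HasMapBifunctor K₁ K₂ T]
  [∀ E : CochainComplex C ℤ, (T.map₂CochainComplex.flip.obj E).IsLeftAdjoint]
  [∀ (J : Type), HasColimitsOfShape (Discrete J) C]
  [∀ (J : Type), (colim : (Discrete J ⥤ C) ⥤ C).PreservesMonomorphisms]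

/-- **Local duality read backwards**: the vanishing of `Ext^i(P, F)`; `S`, `S'` are the functor `singleFunctor C 0`. -/
theorem main [HasExt.{w'} C] (A : DualData T) {I P : C} [Projective I] [Injective P] {n : ℕ} {c : ℤ}
    {S S' : C ⥤ CochainComplex C ℤ} (F : C)
    (hP : ∀ F : C, Nonempty ((F ⟶ P) ≃+ ((I ⟶ F) →+ ZMod n)))
    (hc : Nonempty (Q.obj (A.D (S'.obj P)) ≅ (Q.obj (S'.obj P))⟦-c⟧))
    (hF : A.Refl (S.obj F)) (hh : ∀ p : ℤ, (A.D (S.obj F)).HasHomology p) (b : ℤ)
    (h : Subsingleton (I ⟶ @HomologicalComplex.homology _ _ _ _ _ (A.D (S.obj F)) b (hh b))) (i : ℕ)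
    (hi : c - b = i) (e : CochainComplex.singleFunctor C 0 = S) (e' : CochainComplex.singleFunctor C 0 = S') :
    Subsingleton (Abelian.Ext.{w'} P F i) := by
  subst e
  subst e'
  exact subsingleton_ext P F i (c - b) hi (subsingleton_hom A hP hc _ hF b h)

end

end K813.CvAbs
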