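import Groth.Agent.EtDepth.K584.Hulls
import Groth.Agent.EtDepth.K555.DepthReg
import Groth.Agent.Sga2lef.H253.StkSupp
import Groth.Agent.EtpbcA.ArtinSupp
import Groth.Agent.Sga4h.H299.AbBasic

/-!
# Hulls: descent of the depth

`σ : Spec A ⟶ X` a strict localization at `x`, `β : A → B` a regular local homomorphism with `𝔪_A B = 𝔪_B`: the depth at
`x` is at least the depth of the inverse image to `Spec B` along the closed point.
-/

set_option autoImplicit false
universe u
open CategoryTheory CategoryTheory.Limits AlgebraicGeometry Opposite IsLocalRing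

namespace K813.CvHull

open Groth.Agent Groth.Agent.Etcore Groth.Agent.EtpbcB.BCU Groth.Agent.Etrest.StrictLoc

/-- **Descent of the depth from the hull.** -/
theorem depthAtGE {X : Scheme.{u}} (qX : X ⟶ Spec (CommRingCat.of (ULift.{u} ℚ))) {A B : Type u} [CommRing A]
    [IsLocalRing A] [IsNoetherianRing A] [CommRing B] [IsLocalRing B] [IsNoetherianRing B]
    {σ : Spec (CommRingCat.of A) ⟶ X} (hσ : IsStrictLoc σ) (x : X) (hx : σ (closedPoint A) = x)
    (β : A →+* B) (hβ : @CAlg.IsRegularHom A _ B _ β.toAlgebra) (hl : IsLocalHom β)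
    (hm : (maximalIdeal A).map β = maximalIdeal B) (F : EtCoh.Ab X) (hF : EtCoh.IsTorsion F) (n : ℕ)
    (h : ∀ q : ℕ, q < n → IsZero ((EtDual.locCoh (FEt.puncturedSpec B).ι q).obj
      ((EtCoh.pull (Spec.map (CommRingCat.ofHom β) ≫ σ)).obj F))) :
    EtDepth.DepthAtGE X F x n := by
  rw [Groth.Agent.Sga2lef.H134.DepthAt.depthAtGE_iff_of_isStrictLoc hσ x hx n]
  have hQ : CharZero (ULift.{u} ℚ) := K555.ULiftQ.charZero
  let _ : Algebra A B := β.toAlgebra
  have hfl : Module.Flat A B := hβ.1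
  have hlo : IsLocalHom (algebraMap A B) := hl
  have hff : Module.FaithfullyFlat A B := Module.FaithfullyFlat.of_flat_of_isLocalHom
  obtain ⟨g', sq⟩ : ∃ g' : (FEt.puncturedSpec B).toScheme ⟶ (FEt.puncturedSpec A).toScheme,
      IsPullback g' (FEt.puncturedSpec B).ι (FEt.puncturedSpec A).ι (Spec.map (CommRingCat.ofHom β)) := by
    have h0 : (maximalIdeal A).map (algebraMap A B) = maximalIdeal B := hm
    have h1 := Groth.Agent.Sga2lef.H101.CplDepth.preimage_punctured h0
    change IsLocalRing B at *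
    rw [← h1]
    exact ⟨_, isPullback_morphismRestrict _ _⟩
  have hNSA : TopologicalSpace.NoetherianSpace (Spec (CommRingCat.of A)) :=
    inferInstanceAs (TopologicalSpace.NoetherianSpace (PrimeSpectrum A))
  have hQA : QuasiCompact (FEt.puncturedSpec A).ι := by
    have : TopologicalSpace.NoetherianSpace (FEt.puncturedSpec A).toScheme :=
      (FEt.puncturedSpec A).ι.isOpenEmbedding.isInducing.noetherianSpace
    exact quasiCompact_of_noetherianSpace_source _
  have hbc : BCMor (Spec (CommRingCat.of (ULift.{u} ℚ))) (Spec.map (CommRingCat.ofHom β)) :=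
    (K555.RegMor.ubc_of_isRegularHom β hβ (σ ≫ qX)).bcMor
  intro q hq
  obtain ⟨e⟩ := Groth.Agent.Sga2lef.H101.LocCohBC.nonempty_pull_locCoh_iso hbc sq
    ((EtCoh.pull σ).obj F) (K555.RegBC.isTorsionInvertibleOn_of_isTorsion (ULift.{u} ℚ)
      (Groth.Agent.Etcore.Torsion.isTorsion_pull σ F hF)) q
  have hz : IsZero ((EtCoh.pull (Spec.map (CommRingCat.ofHom β))).obj
      ((EtDual.locCoh (FEt.puncturedSpec A).ι q).obj ((EtCoh.pull σ).obj F))) :=
    ((h q hq).of_iso ((EtDual.locCoh _ q).mapIso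
      ((Groth.Agent.EtpbcA.PullFLC.pullComp (Spec.map (CommRingCat.ofHom β)) σ).app F))).of_iso e
  exact Etcore.PullJoint.isZero_of_pull (fun _ : Unit => Spec.map (CommRingCat.ofHom β))
    (fun x => ⟨(), PrimeSpectrum.comap_surjective_of_faithfullyFlat (A := A) (B := B) x⟩) _ (fun _ => hz)

section Mod

open Groth.Agent.Sga4h Groth.Agent.Etrest.ModAb

variable {Λ : Type (u + 1)} [CommRing Λ]

/-- The inverse image to a point over `v` of a sheaf without stalk at `v`. -/
theorem isZero_pull_of_stk {X Y Z : Scheme.{u}} (g : Y ⟶ X) (i : Z ⟶ Y) (v : X) (hv : ∀ z : Z, g (i z) = v)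
    (H : EtModW.Mod Λ X) (h : IsZero ((EtPts.stk Λ v).obj H)) :
    IsZero ((EtModW.pull Λ i).obj ((EtModW.pull Λ g).obj H)) := by
  refine H299.AbBasic.isZero_of_ab ?_
  have e : (ab Λ Z).obj ((EtModW.pull Λ i).obj ((EtModW.pull Λ g).obj H)) ≅
      (EtCoh.pull i).obj ((EtCoh.pull g).obj ((ab Λ X).obj H)) :=
    (pullIso Λ i).app _ ≪≫ (EtCoh.pull i).mapIso ((pullIso Λ g).app H)
  refine IsZero.of_iso ?_ e
  refine Groth.Agent.EtpbcA.Artin.isZero_of_forall _ fun z => ?_
  rw [Groth.Agent.EtpbcA.Artin.supp_pull, Groth.Agent.EtpbcA.Artin.supp_pull, Set.mem_preimage, Set.mem_preimage,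
    hv z, Groth.Agent.Sga2lef.H253.StkSupp.mem_supp_ab_iff, not_not]
  exact h

end Mod

end K813.CvHull
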