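import Groth.Agent.EtDepth.K813.CvAbs
import Groth.Agent.EtDual.K336.DPMain
import Groth.Agent.EtDual.K336.ExtPP
import Groth.Agent.Sga4h.Dbc323
import Groth.Agent.Sga4B.ClosedSupp
import Groth.Agent.Sga5.H856.HYStalk

/-!
# Local duality read backwards on a strictly local scheme

`isZero_locCoh`: the local cohomology `H^i_x(F)` vanishes for `i < k` if `H^b(D F)_x = 0` for `b > c - k`.
-/

set_option autoImplicit false
universe u

open CategoryTheory CategoryTheory.Limits AlgebraicGeometry Opposite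

attribute [local instance 5000] CategoryTheory.Abelian.toPreadditive
  CategoryTheory.Preadditive.preadditiveHasZeroMorphisms

namespace K813.CvLoc

attribute [local instance] HasDerivedCategory.standard
open scoped Groth.Agent.Sga4h.ModInst
open Groth.Agent Groth.Agent.Sga4h Groth.Agent.Sga4h.Refl DerivedCategory
open Groth.Agent.Sga4h.BidIndD48 Groth.Agent.Sga4h.BidIndLoc48 Groth.Agent.Sga4h.BidLoc48
open Groth.Agent.Sga4h.BidRed538Main Groth.Agent.EtDual.K336 Groth.Agent.EtDual.K336.StrictS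
  Groth.Agent.EtDual.K336.StrictAbs Groth.Agent.EtDual.K336.GlobS

section Supp

variable {X U : Scheme.{u}} (j : U ⟶ X) [IsOpenImmersion j] [EtCoh.BCCont j]
  {Ω : Type u} [Field Ω] [IsSepClosed Ω] (ξ : Spec (CommRingCat.of Ω) ⟶ X) [IsClosedImmersion ξ]
  (hd : IsCompl (Set.range ξ) (Set.range j))

include hd in
/-- The local cohomology sheaf at a closed point vanishes if the local cohomology group vanishes. -/
theorem isZero_locCoh_of_HY (q : ℕ) (F : EtCoh.Ab X) (h : IsZero ((EtDual.HY j q).obj F)) :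
    IsZero ((EtDual.locCoh j q).obj F) := by
  refine Etcore.Stalks.isZero_of_stalks _ fun x => ?_
  by_cases hx : x ∈ Set.range j
  · obtain ⟨y, rfl⟩ := hx
    obtain ⟨Ω', _, _, η, hη⟩ := Etcore.Stalks.exists_geom y
    refine ⟨Ω', inferInstance, inferInstance, η ≫ j, ?_, ?_⟩
    · rw [Scheme.Hom.comp_apply, hη]
    · exact ((EtCoh.stalk η).map_isZero (Sga4B.ClosedSupp.isZero_pull_locCoh j q F)).of_iso
        ((Etbase.StalkPull.stalkPullIso j η).app _)
  · have h1 : x ∈ Set.range ξ := by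
      rw [← hd.symm.compl_eq]
      exact hx
    obtain ⟨y, rfl⟩ := h1
    refine ⟨Ω, inferInstance, inferInstance, ξ, congrArg ξ (Subsingleton.elim _ _), ?_⟩
    exact h.of_iso ((Sga5.H856.HYStalk.HYIsoStalk j ξ hd q).app F).symm

end Supp

section Gen

variable {Λ : Type (u + 1)} [CommRing Λ] {X : Scheme.{u}}

/-- Constructible sheaves are reflexive. -/
theorem refl_single [Finite Λ] (hB : Bid (stdDual Λ X)) (F : EtModW.Mod Λ X) (hF : EtModW.IsConstructible Λ F)
    (S : EtModW.Mod Λ X ⥤ CochainComplex (EtModW.Mod Λ X) ℤ)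
    (e : CochainComplex.singleFunctor (EtModW.Mod Λ X) 0 = S) :
    (stdDual Λ X).Refl (S.obj F) := by
  subst e
  exact hB.refl _ ((Dbc323.isDbc_Q_single_iff F 0).2 hF)

end Gen

variable {A : Type u} [CommRing A] [HenselianLocalRing A] [IsSepClosed (IsLocalRing.ResidueField A)]

/-- A sheaf without stalk at the closed point has no global sections. -/
theorem subsingleton_const {Λ : Type (u + 1)} [CommRing Λ] (G : EtModW.Mod Λ (Spec (CommRingCat.of A)))
    (h : IsZero ((EtModW.pull Λ (ip A)).obj G)) :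
    Subsingleton (EtModW.constMod Λ (Spec (CommRingCat.of A)) Λ ⟶ G) := by
  obtain ⟨e⟩ := nonempty_sect A G
  have h1 : Subsingleton (EtModW.constMod Λ (Spec (CommRingCat.of (IsLocalRing.ResidueField A))) Λ ⟶
      (EtModW.pull Λ (ip A)).obj G) := ⟨fun f g => h.eq_of_tgt f g⟩
  exact ((homConstAddEquiv G).trans (e.trans
    (homConstAddEquiv ((EtModW.pull Λ (ip A)).obj G)).symm)).injective.subsingleton

variable {Λ : Type (u + 1)} [CommRing Λ]

variable (A Λ) in
/-- The data for local duality on `Spec A`. -/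
structure Dat (n : ℕ) (c : ℤ) : Prop where
  inj : Injective (ModuleCat.of Λ Λ)
  bid : Bid (stdDual Λ (Spec (CommRingCat.of A)))
  hP : ∀ F : EtModW.Mod Λ (Spec (CommRingCat.of A)), Nonempty ((F ⟶ PP A Λ) ≃+
    ((EtModW.constMod Λ (Spec (CommRingCat.of A)) Λ ⟶ F) →+ ZMod n))
  hc : Nonempty (Q.obj ((stdDual Λ (Spec (CommRingCat.of A))).D
      ((CochainComplex.singleFunctor (EtModW.Mod Λ (Spec (CommRingCat.of A))) 0).obj (PP A Λ))) ≅
      (Q.obj ((CochainComplex.singleFunctor (EtModW.Mod Λ (Spec (CommRingCat.of A))) 0).obj (PP A Λ)))⟦-c⟧)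

omit [IsSepClosed (IsLocalRing.ResidueField A)] in
/-- The two forms of `ip_* Λ`. -/
theorem nonempty_P' : Nonempty (ExtPP.P' Λ (ip A) ≅ PP A Λ) := by
  obtain ⟨e⟩ := LFinClass.nonempty_pull_constMod (Λ := Λ) (M := Λ) (ip A)
  exact ⟨(EtModW.push Λ (ip A)).mapIso e⟩

variable {n : ℕ} {c : ℤ}

/-- `Ext^i(ip_* Λ, F) = 0`. -/
theorem subsingleton_ext [Finite Λ] (B : Dat A Λ n c)
    (F : EtModW.Mod Λ (Spec (CommRingCat.of A))) (hF : EtModW.IsConstructible Λ F)
    (b : ℤ) (i : ℕ) (hi : c - b = i)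
    (S : EtModW.Mod Λ (Spec (CommRingCat.of A)) ⥤ CochainComplex (EtModW.Mod Λ (Spec (CommRingCat.of A))) ℤ)
    (hh : ∀ p : ℤ, ((stdDual Λ (Spec (CommRingCat.of A))).D (S.obj F)).HasHomology p)
    (h : Subsingleton (EtModW.constMod Λ (Spec (CommRingCat.of A)) Λ ⟶ (@HomologicalComplex.homology _ _ _ _ _
      ((stdDual Λ (Spec (CommRingCat.of A))).D (S.obj F)) b (hh b))))
    (e : CochainComplex.singleFunctor (EtModW.Mod Λ (Spec (CommRingCat.of A))) 0 = S) :
    Subsingleton (Abelian.Ext.{u + 1} (PP A Λ) F i) := by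
  have := B.inj
  exact CvAbs.main (stdDual Λ (Spec (CommRingCat.of A))) F B.hP B.hc (refl_single B.bid F hF S e) hh b h i hi e rfl

omit [IsSepClosed (IsLocalRing.ResidueField A)] in
theorem subsingleton_ext' (F : EtModW.Mod Λ (Spec (CommRingCat.of A))) (i : ℕ)
    (h : Subsingleton (Abelian.Ext.{u + 1} (PP A Λ) F i)) :
    Subsingleton (Abelian.Ext.{u + 1} (ExtPP.P' Λ (ip A)) F i) := by
  obtain ⟨e2⟩ := nonempty_P' (A := A) (Λ := Λ)
  exact CvAbs.subsingleton_ext_of_iso e2 F i h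

theorem isZero_HY {U : Scheme.{u}} (j : U ⟶ Spec (CommRingCat.of A))
    [IsOpenImmersion j] [EtCoh.BCCont j] (hr' : Set.range j = (Set.range (ip A))ᶜ)
    (F : EtModW.Mod Λ (Spec (CommRingCat.of A))) (i : ℕ)
    (h1 : Subsingleton (Abelian.Ext.{u + 1} (ExtPP.P' Λ (ip A)) F i)) :
    IsZero ((EtDual.HY j i).obj ((Etrest.ModAb.ab Λ _).obj F)) := by
  have hcl := isClosedImmersion_ip (A := A)
  obtain ⟨e1⟩ := ExtPP.nonempty_HY j (ip A) hr' F i
  have h4 := e1.symm.injective.subsingleton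
  exact AddCommGrpCat.isZero_of_subsingleton _

/-- **Local duality read backwards.** -/
theorem isZero_locCoh [Finite Λ] (B : Dat A Λ n c) {U : Scheme.{u}} (j : U ⟶ Spec (CommRingCat.of A))
    [IsOpenImmersion j] [EtCoh.BCCont j] (hj : ∀ x, x ∈ Set.range j ↔ x ≠ IsLocalRing.closedPoint A)
    (F : EtModW.Mod Λ (Spec (CommRingCat.of A))) (hF : EtModW.IsConstructible Λ F) (k : ℕ)
    (S : EtModW.Mod Λ (Spec (CommRingCat.of A)) ⥤ CochainComplex (EtModW.Mod Λ (Spec (CommRingCat.of A))) ℤ)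
    (hh : ∀ p : ℤ, ((stdDual Λ (Spec (CommRingCat.of A))).D (S.obj F)).HasHomology p)
    (h : ∀ b : ℤ, c - b < k → IsZero ((EtModW.pull Λ (ip A)).obj (@HomologicalComplex.homology _ _ _ _ _
      ((stdDual Λ (Spec (CommRingCat.of A))).D (S.obj F)) b (hh b))))
    (e : CochainComplex.singleFunctor (EtModW.Mod Λ (Spec (CommRingCat.of A))) 0 = S)
    (i : ℕ) (hi : i < k) : IsZero ((EtDual.locCoh j i).obj ((Etrest.ModAb.ab Λ _).obj F)) := by
  have hcl := isClosedImmersion_ip (A := A)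
  have hr' : Set.range j = (Set.range (ip A))ᶜ := by
    ext x
    rw [hj, range_ip]
    rfl
  have h0 := subsingleton_const _ (h (c - i) (by omega))
  have h1 := subsingleton_ext B F hF (c - i) i (by omega) S hh h0 e
  have h3 := isZero_HY j hr' F i (subsingleton_ext' F i h1)
  exact isZero_locCoh_of_HY j (ip A) (by rw [hr']; exact isCompl_compl) i _ h3

/-- The data for `ℤ/n`. -/
theorem dat_of_baseData [NeZero n] (B : BaseData A n c) : Dat A (Lam.{u} n) n c where
  inj := ModPoint.injective_zmod.{u} n (NeZero.pos n)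
  bid := B.bid
  hP := nonempty_homPP A n
  hc := B.dP

end K813.CvLoc
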