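import Groth.Agent.S2401

/-!
# Constructible sets of closed points

`finite_of_isClosed`: a constructible subset of a noetherian sober space all of whose points are closed is finite.
-/

set_option autoImplicit false
universe u

namespace K813.FinTop

open Topology TopologicalSpace

/-- **A constructible set of closed points is finite.** -/
theorem finite_of_isClosed {X : Type u} [TopologicalSpace X] [NoetherianSpace X] [QuasiSober X] (T : Set X)
    (hT : IsConstructible T) (h : ∀ x ∈ T, IsClosed ({x} : Set X)) : T.Finite := by
  classical
  let g : X → Option X := fun x => if x ∈ T then some x else none
  have h1 : (Set.range g).Finite := by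
    refine Groth.Agent.S2401.result g fun t => ?_
    rcases t with _ | x
    · have h2 : g ⁻¹' {none} = Tᶜ := by
        ext y
        simp only [Set.mem_preimage, Set.mem_singleton_iff, Set.mem_compl_iff, g]
        by_cases hy : y ∈ T <;> simp [hy]
      rw [h2]
      exact hT.compl
    · by_cases hx : x ∈ T
      · have h2 : g ⁻¹' {some x} = {x} := by
          ext y
          simp only [Set.mem_preimage, Set.mem_singleton_iff, g]
          by_cases hy : y ∈ T
          · simp [hy]
          · simp only [hy, if_false]
            constructor
            · intro h3
              exact absurd h3 (by simp)
            · rintro rfl
              exact absurd hx hy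
        rw [h2, ← isConstructible_compl]
        exact (NoetherianSpace.isCompact _).isConstructible (h x hx).isOpen_compl
      · have h2 : g ⁻¹' {some x} = ∅ := by
          ext y
          simp only [Set.mem_preimage, Set.mem_singleton_iff, Set.mem_empty_iff_false, iff_false, g]
          by_cases hy : y ∈ T
          · simp only [hy, if_true, Option.some.injEq]
            rintro rfl
            exact hx hy
          · simp [hy]
        rw [h2]
        exact IsConstructible.empty
  have h2 : (some '' T).Finite := by
    refine h1.subset ?_
    rintro _ ⟨x, hx, rfl⟩
    exact ⟨x, by simp [g, hx]⟩
  exact Set.Finite.of_finite_image h2 (Option.some_injective X).injOn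

end K813.FinTop
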