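import Groth.Agent.EtDepth.K813.FinStmt
import Groth.Agent.EtDepth.K813.Emb
import Groth.Agent.EtDepth.K813.FinTop
import Groth.Agent.Sga2lef.H134.DualOpen
import Groth.Agent.Sga2lef.H253.StkSupp
import Groth.Agent.Sga4h.BidGeoCmp
import Groth.Agent.S8526
import Groth.Agent.Sga4B.PkgP1
import Groth.Agent.Sga4B.Line

/-!
# Finiteness of the set of closed points of small depth over the punctured spectrum of a power series ring

* `isClosed_of_dim_zero`: a point whose closure has dimension zero is closed;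
* `finDepth`: `FinDepth (puncturedSpec K[[x_1, …, x_M]]) m` from biduality on the iterated projective lines, the bound
  on the supports `SuppBd` and its converse `SuppCv` on the affine spaces over `Spec K[[x_1, …, x_M]]`;
* `main`: NODE FIN.
-/

set_option autoImplicit false
universe u
open CategoryTheory CategoryTheory.Limits AlgebraicGeometry Opposite TopologicalSpace
attribute [local instance 5000] CategoryTheory.Abelian.toPreadditive
  CategoryTheory.Preadditive.preadditiveHasZeroMorphisms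
attribute [local instance] HasDerivedCategory.standard

namespace K813.EtFin

open scoped Groth.Agent.Sga4h.ModInst
open K973.Stmt K973.BidStmt K973.CoreStmt Groth.Agent Groth.Agent.Etdl.H434.Defs Groth.Agent.Sga4h
  Groth.Agent.Sga4h.BidIndLoc48 Groth.Agent.Sga4h.BidRed538Main Groth.Agent.Sga4h.BidGeoIt
  Groth.Agent.Sga4h.BidGeoCmp Groth.Agent.Sga4B FinStmt Emb

/-- A point whose closure has dimension zero is closed. -/
theorem isClosed_of_dim_zero {X : Type*} [TopologicalSpace X] [T0Space X] (u : X)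
    (h : topologicalKrullDim ↥(closure ({u} : Set X)) = 0) : IsClosed ({u} : Set X) := by
  suffices hh : closure ({u} : Set X) ⊆ {u} by
    rw [← hh.antisymm subset_closure]
    exact isClosed_closure
  intro y hy
  by_contra hne
  let Y := ↥(closure ({u} : Set X))
  let a : Y := ⟨u, subset_closure rfl⟩
  let b : Y := ⟨y, hy⟩
  have h1 : Order.krullDim (IrreducibleCloseds Y) ≤ 0 := h.le
  rw [Order.krullDim_nonpos_iff_forall_isMax] at h1
  have hab : a ⤳ b := by
    rw [← Topology.IsInducing.subtypeVal.specializes_iff]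
    exact specializes_iff_mem_closure.2 hy
  let D : IrreducibleCloseds Y := ⟨closure {b}, isIrreducible_singleton.closure, isClosed_closure⟩
  let E : IrreducibleCloseds Y := ⟨closure {a}, isIrreducible_singleton.closure, isClosed_closure⟩
  have hDE : D ≤ E := by
    change closure {b} ⊆ closure {a}
    exact hab.closure_subset
  have hED : E ≤ D := h1 D hDE
  have h2 : b ⤳ a := by
    rw [specializes_iff_mem_closure]
    exact hED (subset_closure rfl : a ∈ closure {a})
  have h3 : a = b := (hab.antisymm h2).eq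
  exact hne (congrArg Subtype.val h3).symm

section Dual

variable {Λ : Type (u + 1)} [CommRing Λ] {V X : Scheme.{u}}

/-- A constructible sheaf in degree zero. -/
theorem isDbc_single [Finite Λ] (F : EtModW.Mod Λ X) (hF : EtModW.IsConstructible Λ F) :
    EtModD.IsDbc (DerivedCategory.Q.obj ((CochainComplex.singleFunctor (EtModW.Mod Λ X) 0).obj F)) :=
  (Dbc323.isDbc_Q_single_iff F 0).2 hF

/-- Complexes bounded above. -/
theorem isZero_homology (K : CochainComplex (EtModW.Mod Λ X) ℤ) (b : ℤ) (hb : (DerivedCategory.Q.obj K).IsLE b)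
    (p : ℤ) (hp : b < p) : IsZero (K.homology p) := by
  rw [DerivedCategory.isLE_iff] at hb
  exact IsZero.of_iso (hb p hp) (hdIso _ p).symm

/-- The dual of a complex of `D^b_c` is bounded above. -/
theorem exists_isLE (hB : Bid (stdDual Λ X)) (K : CochainComplex (EtModW.Mod Λ X) ℤ)
    (hK : EtModD.IsDbc (DerivedCategory.Q.obj K)) :
    ∃ b : ℤ, (DerivedCategory.Q.obj ((stdDual Λ X).D K)).IsLE b := by
  obtain ⟨⟨a, b, -, hb⟩, -⟩ := hB.dbc K hK
  exact ⟨b, hb⟩

/-- The dual of a constructible sheaf is bounded above. -/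
theorem exists_bound_of_bid [Finite Λ] (hB : Bid (stdDual Λ X)) (F : EtModW.Mod Λ X)
    (hF : EtModW.IsConstructible Λ F) :
    ∃ b : ℤ, ∀ p : ℤ, b < p →
      IsZero (((stdDual Λ X).D ((CochainComplex.singleFunctor (EtModW.Mod Λ X) 0).obj F)).homology p) := by
  obtain ⟨b, hb⟩ := exists_isLE hB ((CochainComplex.singleFunctor (EtModW.Mod Λ X) 0).obj F) (isDbc_single F hF)
  exact ⟨b, fun p hp => isZero_homology _ b hb p hp⟩

/-- The dual of a constructible sheaf on an open subscheme is bounded above. -/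
theorem exists_bound (j : V ⟶ X) [IsOpenImmersion j] [Finite Λ] [IsNoetherian X] [IsNoetherian V]
    (hB : Bid (stdDual Λ X)) (F : EtModW.Mod Λ V) (hF : EtModW.IsConstructible Λ F) :
    ∃ b : ℤ, ∀ p : ℤ, b < p →
      IsZero (((stdDual Λ V).D ((CochainComplex.singleFunctor (EtModW.Mod Λ V) 0).obj F)).homology p) := by
  obtain ⟨b, hb⟩ := exists_bound_of_bid hB _ (BidRed538Ext.isConstructible_ext j F hF)
  refine ⟨b, fun p hp => ?_⟩
  obtain ⟨e⟩ := Sga2lef.H134.DualOpen.nonempty_res_D_ext j F p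
  exact IsZero.of_iso ((BidEtSh.resM Λ j).map_isZero (hb p hp)) e.symm

end Dual

section Stk

variable {Λ : Type (u + 1)} [CommRing Λ] [Finite Λ] {A : Scheme.{u}} [IsNoetherian A]

/-- The support of a constructible sheaf on a noetherian scheme is constructible. -/
theorem isConstructible_stk (H : EtModW.Mod Λ A) (hH : EtModW.IsConstructible Λ H) :
    Topology.IsConstructible {v : A | ¬ IsZero ((EtPts.stk Λ v).obj H)} := by
  have h1 : {v : A | ¬ IsZero ((EtPts.stk Λ v).obj H)} = EtPBC.supp ((Etrest.ModAb.ab Λ A).obj H) := by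
    ext v
    exact (Sga2lef.H253.StkSupp.mem_supp_ab_iff H v).symm
  rw [h1]
  exact (S8526.result _ ((Etcore.LFinite.isConstructible_iff_ab _).1 hH)).isConstructible

/-- The supports of the cohomology sheaves of the dual are constructible. -/
theorem isConstructible_stk_D {P : Scheme.{u}} [IsNoetherian P] (j : A ⟶ P) [IsOpenImmersion j]
    (hB : Bid (stdDual Λ P)) (F : EtModW.Mod Λ A) (hF : EtModW.IsConstructible Λ F) (p : ℤ) :
    Topology.IsConstructible {v : A | ¬ IsZero ((EtPts.stk Λ v).obj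
      (((stdDual Λ A).D ((CochainComplex.singleFunctor _ 0).obj F)).homology p))} :=
  isConstructible_stk _ (Sga2lef.H134.DualOpen.isConstructible_homology_D j hB F hF p)

/-- The stalks of the cohomology sheaves of the dual vanish in large degrees. -/
theorem exists_bound_stk {P : Scheme.{u}} [IsNoetherian P] (j : A ⟶ P) [IsOpenImmersion j]
    (hB : Bid (stdDual Λ P)) (F : EtModW.Mod Λ A) (hF : EtModW.IsConstructible Λ F) :
    ∃ b : ℤ, ∀ p : ℤ, b < p → ∀ v : A, IsZero ((EtPts.stk Λ v).obj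
      (((stdDual Λ A).D ((CochainComplex.singleFunctor _ 0).obj F)).homology p)) := by
  obtain ⟨b, hb⟩ := exists_bound j hB F hF
  exact ⟨b, fun p hp v => (EtPts.stk Λ v).map_isZero (hb p hp)⟩

end Stk

section Core

variable {A L : Scheme.{u}} (i : L ⟶ A) [IsClosedImmersion i] [IsNoetherian A] {n D : ℕ}
  (hdim : ∀ u : L, ∃ d e : ℕ, topologicalKrullDim ↥(closure ({u} : Set L)) = d ∧
    ringKrullDim (A.presheaf.stalk (i u)) = e ∧ d + e + 1 = D)

include hdim in
/-- The set of closed points of small depth: the abstract form; `Va p v`: the stalk at `v` of the `p`-th cohomology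
sheaf of the dual vanishes; `De v q`: the depth at `v` is at least `q`. -/
theorem core (Va : ℤ → ↥A → Prop) (hV : ∀ p, Topology.IsConstructible {v | ¬ Va p v})
    (hb : ∃ b : ℤ, ∀ p : ℤ, b < p → ∀ v, Va p v) (De : ↥A → ℕ → Prop)
    (hs : ∀ (v : A) (q e : ℕ), ringKrullDim (A.presheaf.stalk v) = e → De v q →
      ∀ p : ℤ, 2 * (e : ℤ) < p + q → Va p v)
    (hc : ∀ (v : A) (q e : ℕ), ringKrullDim (A.presheaf.stalk v) = e →
      (∀ p : ℤ, 2 * (e : ℤ) < p + q → Va p v) → De v q)
    (hD : ∀ (u : L) (d : ℕ), 0 < d → topologicalKrullDim ↥(closure ({u} : Set L)) = (d : WithBot ℕ∞) →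
      De (i u) (n - d)) :
    {u : L | topologicalKrullDim ↥(closure ({u} : Set L)) = 0 ∧ ¬ De (i u) n}.Finite := by
  have hL : NoetherianSpace L := i.isClosedEmbedding.isInducing.noetherianSpace
  obtain ⟨b, hb⟩ := hb
  let T : ℤ → Set L := fun p => i ⁻¹' {v : A | ¬ Va p v}
  have hT : ∀ p, Topology.IsConstructible (T p) := fun p => i.isConstructible_preimage (hV p)
  have hfin : ∀ p : ℤ, 2 * (D : ℤ) - 2 < p + n → (T p).Finite := by
    intro p hp
    refine FinTop.finite_of_isClosed _ (hT p) fun u hu => ?_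
    obtain ⟨d, e, hd, he, hde⟩ := hdim u
    rcases Nat.eq_zero_or_pos d with h0 | h0
    · rw [h0] at hd
      exact isClosed_of_dim_zero u (by rw [hd]; rfl)
    · exfalso
      apply hu
      refine hs (i u) (n - d) e he (hD u d h0 hd) p ?_
      omega
  refine Set.Finite.subset (Set.Finite.biUnion (s := Set.Ioc (2 * (D : ℤ) - 2 - n) b)
    (Set.finite_Ioc _ _) (t := T) (fun p hp => hfin p (by have := hp.1; omega))) ?_
  rintro u ⟨hu0, hu⟩
  by_contra h
  apply hu
  obtain ⟨d, e, hd, he, hde⟩ := hdim u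
  have hd0 : d = 0 := by
    rw [hd] at hu0
    exact_mod_cast hu0
  refine hc (i u) n e he fun p hp => ?_
  by_contra hz
  apply h
  rw [Set.mem_iUnion₂]
  refine ⟨p, ⟨by omega, ?_⟩, hz⟩
  by_contra hbp
  exact hz (hb p (not_le.1 hbp) (i u))

include hdim in
/-- The set of closed points of small depth, for a sheaf on `A`. -/
theorem core_sheaf {Λ : Type (u + 1)} [CommRing Λ] [Finite Λ] {P : Scheme.{u}} [IsNoetherian P] (j : A ⟶ P)
    [IsOpenImmersion j] (hBP : Bid (stdDual Λ P)) (F : EtModW.Mod Λ A) (hF : EtModW.IsConstructible Λ F)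
    (hs : ∀ (v : A) (q e : ℕ), ringKrullDim (A.presheaf.stalk v) = e →
      EtDepth.DepthAtGE A ((EtModD.forgetToAb Λ A).obj F) v q →
      ∀ p : ℤ, 2 * (e : ℤ) < p + q → IsZero ((EtPts.stk Λ v).obj
        (((stdDual Λ A).D ((CochainComplex.singleFunctor _ 0).obj F)).homology p)))
    (hc : ∀ (v : A) (q e : ℕ), ringKrullDim (A.presheaf.stalk v) = e →
      (∀ p : ℤ, 2 * (e : ℤ) < p + q → IsZero ((EtPts.stk Λ v).obj
        (((stdDual Λ A).D ((CochainComplex.singleFunctor _ 0).obj F)).homology p))) →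
      EtDepth.DepthAtGE A ((EtModD.forgetToAb Λ A).obj F) v q)
    (hD : ∀ (u : L) (d : ℕ), 0 < d → topologicalKrullDim ↥(closure ({u} : Set L)) = (d : WithBot ℕ∞) →
      EtDepth.DepthAtGE A ((EtModD.forgetToAb Λ A).obj F) (i u) (n - d)) :
    {u : L | topologicalKrullDim ↥(closure ({u} : Set L)) = 0 ∧
      ¬ EtDepth.DepthAtGE A ((EtModD.forgetToAb Λ A).obj F) (i u) n}.Finite :=
  core i hdim
    (fun p v => IsZero ((EtPts.stk Λ v).obj
      (((stdDual Λ A).D ((CochainComplex.singleFunctor _ 0).obj F)).homology p)))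
    (fun p => isConstructible_stk_D j hBP F hF p) (exists_bound_stk j hBP F hF)
    (fun v q => EtDepth.DepthAtGE A ((EtModD.forgetToAb Λ A).obj F) v q) hs hc hD

/-- Independence of the proofs. -/
theorem transport {Λ : Type (u + 1)} [CommRing Λ] {A : Scheme.{u}} {F : EtModW.Mod Λ A}
    {S S' : EtModW.Mod Λ A ⥤ CochainComplex (EtModW.Mod Λ A) ℤ} (e : S = S')
    (Ψ : ∀ S : EtModW.Mod Λ A ⥤ CochainComplex (EtModW.Mod Λ A) ℤ,
      (∀ p : ℤ, ((stdDual Λ A).D (S.obj F)).HasHomology p) → Prop)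
    (hh : ∀ p : ℤ, ((stdDual Λ A).D (S.obj F)).HasHomology p)
    (hh' : ∀ p : ℤ, ((stdDual Λ A).D (S'.obj F)).HasHomology p) (h : Ψ S' hh') : Ψ S hh := by
  subst e
  exact h

include hdim in
/-- The variant of `core_sheaf` for arbitrary proofs of the properties `HasZeroObject`, `HasHomology`. -/
theorem core_sheaf' {Λ : Type (u + 1)} [CommRing Λ] [Finite Λ] {P : Scheme.{u}} [IsNoetherian P] (j : A ⟶ P)
    [IsOpenImmersion j] (hBP : Bid (stdDual Λ P)) (F : EtModW.Mod Λ A) (hF : EtModW.IsConstructible Λ F)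
    (S : EtModW.Mod Λ A ⥤ CochainComplex (EtModW.Mod Λ A) ℤ)
    (hh : ∀ p : ℤ, ((stdDual Λ A).D (S.obj F)).HasHomology p)
    (hs : ∀ (v : A) (q e : ℕ), ringKrullDim (A.presheaf.stalk v) = e →
      EtDepth.DepthAtGE A ((EtModD.forgetToAb Λ A).obj F) v q →
      ∀ p : ℤ, 2 * (e : ℤ) < p + q → IsZero ((EtPts.stk Λ v).obj
        (@HomologicalComplex.homology _ _ _ _ _ ((stdDual Λ A).D (S.obj F)) p (hh p))))
    (hc : ∀ (v : A) (q e : ℕ), ringKrullDim (A.presheaf.stalk v) = e →
      (∀ p : ℤ, 2 * (e : ℤ) < p + q → IsZero ((EtPts.stk Λ v).obj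
        (@HomologicalComplex.homology _ _ _ _ _ ((stdDual Λ A).D (S.obj F)) p (hh p)))) →
      EtDepth.DepthAtGE A ((EtModD.forgetToAb Λ A).obj F) v q)
    (hD : ∀ (u : L) (d : ℕ), 0 < d → topologicalKrullDim ↥(closure ({u} : Set L)) = (d : WithBot ℕ∞) →
      EtDepth.DepthAtGE A ((EtModD.forgetToAb Λ A).obj F) (i u) (n - d))
    (e : CochainComplex.singleFunctor (EtModW.Mod Λ A) 0 = S) :
    {u : L | topologicalKrullDim ↥(closure ({u} : Set L)) = 0 ∧
      ¬ EtDepth.DepthAtGE A ((EtModD.forgetToAb Λ A).obj F) (i u) n}.Finite :=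
  core_sheaf i hdim j hBP F hF
    (transport e (fun S hh => ∀ (v : A) (q e : ℕ), ringKrullDim (A.presheaf.stalk v) = e →
      EtDepth.DepthAtGE A ((EtModD.forgetToAb Λ A).obj F) v q →
      ∀ p : ℤ, 2 * (e : ℤ) < p + q → IsZero ((EtPts.stk Λ v).obj
        (@HomologicalComplex.homology _ _ _ _ _ ((stdDual Λ A).D (S.obj F)) p (hh p)))) (fun _ => inferInstance) hh hs)
    (transport e (fun S hh => ∀ (v : A) (q e : ℕ), ringKrullDim (A.presheaf.stalk v) = e →
      (∀ p : ℤ, 2 * (e : ℤ) < p + q → IsZero ((EtPts.stk Λ v).obj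
        (@HomologicalComplex.homology _ _ _ _ _ ((stdDual Λ A).D (S.obj F)) p (hh p)))) →
      EtDepth.DepthAtGE A ((EtModD.forgetToAb Λ A).obj F) v q) _ hh hc) hD

include hdim in
/-- The set of closed points of small depth, for a sheaf of `ℤ/m`-modules on `A`. -/
theorem core_zmod {m : ℕ} [NeZero m] {P : Scheme.{u}} [IsNoetherian P] (j : A ⟶ P)
    [IsOpenImmersion j] (hBP : Bid (stdDual (Lam.{u} m) P)) (hs : SuppBd.{u} m A) (hc : SuppCv.{u} m A)
    (F : EtModW.Mod (Lam.{u} m) A) (hF : EtModW.IsConstructible (Lam.{u} m) F)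
    (hD : ∀ (u : L) (d : ℕ), 0 < d → topologicalKrullDim ↥(closure ({u} : Set L)) = (d : WithBot ℕ∞) →
      EtDepth.DepthAtGE A ((EtModD.forgetToAb (Lam.{u} m) A).obj F) (i u) (n - d)) :
    {u : L | topologicalKrullDim ↥(closure ({u} : Set L)) = 0 ∧
      ¬ EtDepth.DepthAtGE A ((EtModD.forgetToAb (Lam.{u} m) A).obj F) (i u) n}.Finite :=
  core_sheaf' i hdim j hBP F hF _ _ (hs.out F hF) (hc.out F hF) hD rfl

end Core

/-- **Finiteness of the set of closed points of small depth.** -/
theorem finDepth (m : ℕ) (hm : 0 < m) (M : ℕ) (K : Type u) [Field K]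
    (hB : ∀ N : ℕ, Bid (stdDual (Lam.{u} m) (It (SP M K) N)))
    (hs : ∀ N : ℕ, SuppBd.{u} m (AN M N K)) (hc : ∀ N : ℕ, SuppCv.{u} m (AN M N K)) :
    FinDepth (FEt.puncturedSpec (MvPowerSeries (Fin M) K) : Scheme.{u}) m := by
  intro L _ f _ G hG n hD
  have hm' : NeZero m := ⟨hm.ne'⟩
  obtain ⟨N, i, hi, w⟩ := exists_emb f
  have hA1 : IsLocallyNoetherian (AN M N K) := LocallyOfFiniteType.isLocallyNoetherian (anStr M N K)
  have hBP : Bid (stdDual (Lam.{u} m) (IterP1.P (SP M K) N)) := by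
    rw [← it_eq_P]
    exact hB N
  have hA2 : CompactSpace (AN M N K) := QuasiCompact.compactSpace_of_compactSpace (anStr M N K)
  have hA : IsNoetherian (AN M N K) := ⟨⟩
  have hP : IsNoetherian (IterP1.P (SP M K) N) := PkgP1.isNoetherian_P _ N
  have h1 := core_zmod (n := n) i (fun u => exists_dims i w u) (IterP1.aff (SP M K) N) hBP (hs N) (hc N) _
    (isConstructible_push i G hm hG) fun u d h0 hd => (depth_push_iff i G u (n - d)).2 (hD u d h0 hd)
  refine h1.subset ?_
  rintro u ⟨hu0, hu⟩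
  exact ⟨hu0, fun h => hu ((depth_push_iff i G u n).1 h)⟩

/-- **NODE FIN**, from the converse of the bound on the supports. -/
theorem main (hcv : FinStmt.NodeCv.{u}) : NodeFin.{u} := by
  intro m hm hP hs K _ _ _ M
  have hm0 : 0 < m := hm.pos
  have hc : ∀ N : ℕ, SuppCv.{u} m (AN M N K) := by
    intro N
    have hsm : Smooth (anStr M N K) := Groth.Agent.Sga4B.Line.smooth_affineSpace (ULift.{u} (Fin N)) (SP M K)
    refine hcv m hm0 M K (AN M N K) (anStr M N K) (M + N) (fun z => ?_) fun c' _ K' _ _ _ => (hP c' 0 K').bid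
    obtain ⟨e, c, r, h1, -, -, h2⟩ := Dims.stalk_formula M N (CalgB.PowField.ringKrullDim_eq K M) z
    rw [h1]
    have h3 : e ≤ M + N := by omega
    exact_mod_cast h3
  exact @finDepth m hm0 M K _ (fun N => (hP M N K).bid) (fun N => hs M N K) hc

end K813.EtFin
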