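import Groth.Agent.EtDepth.K813.CvLoc
import Groth.Agent.EtDepth.K813.CvHull
import Groth.Agent.EtDepth.K813.EtFin

/-!
# Local duality read backwards: vanishing of the local cohomology of the inverse image to a hull
-/

set_option autoImplicit false
universe u

open CategoryTheory CategoryTheory.Limits AlgebraicGeometry Opposite

attribute [local instance 5000] CategoryTheory.Abelian.toPreadditive
  CategoryTheory.Preadditive.preadditiveHasZeroMorphisms

namespace K813.CvMod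

attribute [local instance] HasDerivedCategory.standard
open scoped Groth.Agent.Sga4h.ModInst
open Groth.Agent Groth.Agent.Sga4h Groth.Agent.Sga4h.Refl DerivedCategory
open Groth.Agent.Sga4h.BidIndD48 Groth.Agent.Sga4h.BidIndLoc48 Groth.Agent.Sga4h.BidLoc48
open Groth.Agent.Sga4h.BidRed538Main Groth.Agent.EtDual.K336.StrictS

variable {Λ : Type (u + 1)} [CommRing Λ] {X Y : Scheme.{u}}

/-- The inverse image of a sheaf in degree zero. -/
theorem nonempty_R_single (g : Y ⟶ X) (F : EtModW.Mod Λ X) :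
    Nonempty ((R g).obj ((CochainComplex.singleFunctor (EtModW.Mod Λ X) 0).obj F) ≅
      (CochainComplex.singleFunctor (EtModW.Mod Λ Y) 0).obj ((EtModW.pull Λ g).obj F)) :=
  ⟨(HomologicalComplex.singleMapHomologicalComplex (EtModW.pull Λ g) (ComplexShape.up ℤ) 0).app F⟩

/-- The cohomology of the dual of the inverse image. -/
theorem nonempty_pull_HD [Finite Λ] (g : Y ⟶ X) (hg : Loc (stdDual Λ X) (stdDual Λ Y) g) (F : EtModW.Mod Λ X)
    (hF : EtModW.IsConstructible Λ F) (p : ℤ) :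
    Nonempty ((EtModW.pull Λ g).obj (((stdDual Λ X).D
        ((CochainComplex.singleFunctor (EtModW.Mod Λ X) 0).obj F)).homology p) ≅
      ((stdDual Λ Y).D ((CochainComplex.singleFunctor (EtModW.Mod Λ Y) 0).obj
        ((EtModW.pull Λ g).obj F))).homology p) := by
  obtain ⟨e⟩ := hg.iso _ (EtFin.isDbc_single F hF) p
  obtain ⟨e0⟩ := nonempty_R_single g F
  obtain ⟨e'⟩ := Sga2lef.H134.DualOpen.nonempty_D_iso (stdDual Λ Y) e0 p
  exact ⟨e ≪≫ e'⟩

/-- The variant with arbitrary proofs. -/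
theorem nonempty_pull_HD' [Finite Λ] (g : Y ⟶ X) (hg : Loc (stdDual Λ X) (stdDual Λ Y) g) (F : EtModW.Mod Λ X)
    (hF : EtModW.IsConstructible Λ F) (p : ℤ)
    (S : EtModW.Mod Λ X ⥤ CochainComplex (EtModW.Mod Λ X) ℤ)
    (hh : ∀ p : ℤ, ((stdDual Λ X).D (S.obj F)).HasHomology p)
    (S' : EtModW.Mod Λ Y ⥤ CochainComplex (EtModW.Mod Λ Y) ℤ)
    (hh' : ∀ p : ℤ, ((stdDual Λ Y).D (S'.obj ((EtModW.pull Λ g).obj F))).HasHomology p)
    (e : CochainComplex.singleFunctor (EtModW.Mod Λ X) 0 = S)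
    (e' : CochainComplex.singleFunctor (EtModW.Mod Λ Y) 0 = S') :
    Nonempty ((EtModW.pull Λ g).obj (@HomologicalComplex.homology _ _ _ _ _ ((stdDual Λ X).D (S.obj F)) p (hh p)) ≅
      @HomologicalComplex.homology _ _ _ _ _ ((stdDual Λ Y).D (S'.obj ((EtModW.pull Λ g).obj F))) p (hh' p)) := by
  subst e
  subst e'
  exact nonempty_pull_HD g hg F hF p

section Hull

variable {B : Type u} [CommRing B] [HenselianLocalRing B] [IsSepClosed (IsLocalRing.ResidueField B)] {n : ℕ}

/-- **Local cohomology of the inverse image.** -/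
theorem isZero_locCoh_pull [Finite Λ] {c : ℕ} (D : CvLoc.Dat B Λ n (2 * (c : ℤ))) {U : Scheme.{u}}
    (j : U ⟶ Spec (CommRingCat.of B)) [IsOpenImmersion j] [EtCoh.BCCont j]
    (hj : ∀ x, x ∈ Set.range j ↔ x ≠ IsLocalRing.closedPoint B) (g : Spec (CommRingCat.of B) ⟶ X)
    (hg : Loc (stdDual Λ X) (stdDual Λ (Spec (CommRingCat.of B))) g) (v : X)
    (hv : g (IsLocalRing.closedPoint B) = v) (F : EtModW.Mod Λ X) (hF : EtModW.IsConstructible Λ F) (k : ℕ)
    (S : EtModW.Mod Λ X ⥤ CochainComplex (EtModW.Mod Λ X) ℤ)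
    (hh : ∀ p : ℤ, ((stdDual Λ X).D (S.obj F)).HasHomology p)
    (h : ∀ p : ℤ, 2 * (c : ℤ) < p + k → IsZero ((EtPts.stk Λ v).obj
      (@HomologicalComplex.homology _ _ _ _ _ ((stdDual Λ X).D (S.obj F)) p (hh p))))
    (S' : EtModW.Mod Λ (Spec (CommRingCat.of B)) ⥤ CochainComplex (EtModW.Mod Λ (Spec (CommRingCat.of B))) ℤ)
    (hh' : ∀ p : ℤ, ((stdDual Λ (Spec (CommRingCat.of B))).D (S'.obj ((EtModW.pull Λ g).obj F))).HasHomology p)
    (e : CochainComplex.singleFunctor (EtModW.Mod Λ X) 0 = S)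
    (e' : CochainComplex.singleFunctor (EtModW.Mod Λ (Spec (CommRingCat.of B))) 0 = S')
    (i : ℕ) (hi : i < k) :
    IsZero ((EtDual.locCoh j i).obj ((EtCoh.pull g).obj ((Etrest.ModAb.ab Λ X).obj F))) := by
  have h1 := CvLoc.isZero_locCoh D j hj ((EtModW.pull Λ g).obj F) (Etcore.LCrit.isConstructible_pull g F hF) k S' hh'
    (fun b hb => by
      obtain ⟨ε⟩ := nonempty_pull_HD' g hg F hF b S hh S' hh' e e'
      refine IsZero.of_iso ?_ ((EtModW.pull Λ (ip B)).mapIso ε.symm)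
      refine CvHull.isZero_pull_of_stk g (ip B) v (fun z => ?_) _ (h b (by omega))
      rw [Subsingleton.elim z default, ip_default]
      exact hv) e' i hi
  exact h1.of_iso ((EtDual.locCoh j i).mapIso ((Etrest.ModAb.pullIso Λ g).app F).symm)

end Hull

end K813.CvMod
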