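import Groth.Agent.EtDepth.K973.CoreStmt

/-!
# The converse of the bound on the supports: interface

`SuppCv m X`: the depth of `F` at `v` is at least `q` if `H^p(D F)_v = 0` for `p > 2 dim O_v - q`.
-/

set_option autoImplicit false
universe u
open CategoryTheory CategoryTheory.Limits AlgebraicGeometry Opposite
attribute [local instance 5000] CategoryTheory.Abelian.toPreadditive
  CategoryTheory.Preadditive.preadditiveHasZeroMorphisms
attribute [local instance] HasDerivedCategory.standard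

namespace K813.FinStmt

open scoped Groth.Agent.Sga4h.ModInst
open K973.Stmt K973.BidStmt K973.CoreStmt Groth.Agent.Etdl.H434.Defs Groth.Agent.Sga4h.BidIndLoc48
  Groth.Agent.Sga4h.BidRed538Main Groth.Agent.Sga4h.BidGeoIt

/-- The converse of `SuppBd`. -/
structure SuppCv (m : ℕ) (X : Scheme.{u}) : Prop where
  out : ∀ (F : EtModW.Mod (Lam.{u} m) X) (_ : EtModW.IsConstructible (Lam.{u} m) F) (v : X) (q e : ℕ)
    (_ : ringKrullDim (X.presheaf.stalk v) = e)
    (_ : ∀ p : ℤ, 2 * (e : ℤ) < p + q → IsZero ((Groth.Agent.Sga4h.EtPts.stk (Lam.{u} m) v).obj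
      (((stdDual (Lam.{u} m) X).D ((CochainComplex.singleFunctor _ 0).obj F)).homology p))),
    EtDepth.DepthAtGE X ((EtModD.forgetToAb (Lam.{u} m) X).obj F) v q

/-- NODE CV: `depth_v F ≥ q` if `H^p(D F)_v = 0` for `p > 2 dim O_v - q`. -/
def NodeCv : Prop :=
  ∀ (m : ℕ) (_ : 0 < m) (M : ℕ) (K : Type u) [Field K] [IsAlgClosed K] [CharZero K] (X : Scheme.{u})
    (f : X ⟶ SP M K) [Smooth f] [QuasiCompact f] [IsSeparated f] (c : ℕ)
    (_ : ∀ x : X, ringKrullDim (X.presheaf.stalk x) ≤ c) (_ : ∀ c' ≤ c, BidSP.{u} m c'), SuppCv m X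

end K813.FinStmt
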