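import Groth.Agent.EtDepth.K813.EtFin
import Groth.Agent.EtDepth.K813.Cv

/-!
# Node FIN: finiteness of the set of closed points of small depth
-/

set_option autoImplicit false
universe u

namespace K813.NodeFin

/-- **NODE FIN.** -/
theorem main : K973.CoreStmt.NodeFin.{u} := EtFin.main Cv.main

end K813.NodeFin
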